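import Groth.Agent.DefGlueLib.AutDer
import Groth.Agent.UnrStalkLib.DualNumbers
import Groth.Agent.WeilResLib.UnitDiag
import Groth.Prelude.Def_AutSch

/-!
# The automorphism scheme is unramified exactly when there are no vector fields
-/

set_option autoImplicit false
set_option maxHeartbeats 1000000
set_option linter.unusedSectionVars false
set_option linter.style.haveILetI false
set_option backward.isDefEq.respectTransparency false
set_option backward.isDefEq.respectTransparency.types false

universe u

open CategoryTheory CategoryTheory.Limits MonoidalCategory CartesianMonoidalCategory AlgebraicGeometry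
open HilbGlueLib (D)
open scoped MonObj

noncomputable section

namespace AutUnrLib

variable {k : Type u} [Field k]

/-- The dual numbers over the field. -/
abbrev T (k : Type u) [Field k] : Over (Spec (CommRingCat.of k)) := Over.mk (ArtFun.Art.specOver (D k))

theorem specRes_specOver : ArtFun.Art.specRes (D k) ≫ ArtFun.Art.specOver (D k) = 𝟙 _ := by
  rw [ArtFun.Art.specRes_comp]
  have h := ArtFun.Art.comp_specRes_base (Λ := k) (𝟙 (ArtFun.Art.specPt k))
  rwa [Category.id_comp] at h

/-- The closed point of the dual numbers. -/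
def red (k : Type u) [Field k] : 𝟙_ (Over (Spec (CommRingCat.of k))) ⟶ T k :=
  Over.homMk (ArtFun.Art.specRes (D k)) specRes_specOver

section Group

variable (G : Over (Spec (CommRingCat.of k))) [GrpObj G] [LocallyOfFiniteType G.hom]

theorem formallyUnramified_iff_dual :
    FormallyUnramified G.hom ↔ ∀ v : T k ⟶ G, red k ≫ v = 1 → v = 1 := by
  constructor
  · intro hp v hv
    have h12 : red k ≫ v = red k ≫ (1 : T k ⟶ G) := by rw [hv, MonObj.comp_one]
    have h : ArtFun.Art.specRes (D k) ≫ v.left = ArtFun.Art.specRes (D k) ≫ (1 : T k ⟶ G).left :=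
      congrArg CommaMorphism.left h12
    refine Over.OverMorphism.ext (UnrStalkLib.lifts_eq G.hom (B := k) (B' := DualNumber k)
      (AlgebraicGeometry.FormallyUnramified.stalkMap G.hom
        ((ArtFun.Art.specRes (D k) ≫ v.left) (IsLocalRing.closedPoint k)))
      (TrivSqZeroExt.fstHom k k k).toRingHom (fun c => ⟨TrivSqZeroExt.inl c, rfl⟩) ?_ v.left (1 : T k ⟶ G).left
      rfl h ((Over.w v).trans (Over.w (1 : T k ⟶ G)).symm))
    rw [pow_two, eq_bot_iff, Ideal.mul_le]
    intro a ha b hb
    have ha' : a.fst = 0 := ha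
    have hb' : b.fst = 0 := hb
    rw [Ideal.mem_bot]
    ext <;> simp [ha', hb']
  · intro H
    have H' : ∀ v₁ v₂ : Spec (CommRingCat.of (DualNumber k)) ⟶ G.left,
        v₁ ≫ G.hom = Spec.map (CommRingCat.ofHom (algebraMap k (DualNumber k))) →
        v₂ ≫ G.hom = Spec.map (CommRingCat.ofHom (algebraMap k (DualNumber k))) →
        Spec.map (CommRingCat.ofHom (TrivSqZeroExt.fstHom k k k).toRingHom) ≫ v₁ =
          Spec.map (CommRingCat.ofHom (TrivSqZeroExt.fstHom k k k).toRingHom) ≫ v₂ →
        v₁ = v₂ := by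
      intro v₁ v₂ h1 h2 h12
      let w₁ : T k ⟶ G := Over.homMk v₁ h1
      let w₂ : T k ⟶ G := Over.homMk v₂ h2
      have hr : red k ≫ w₁ = red k ≫ w₂ := Over.OverMorphism.ext h12
      have := H (w₁ * w₂⁻¹) (by rw [MonObj.comp_mul, GrpObj.comp_inv, hr, mul_inv_cancel])
      have hw : w₁ = w₂ := mul_inv_eq_one.mp this
      exact congrArg CommaMorphism.left hw
    have he : (η[G] : 𝟙_ (Over (Spec (CommRingCat.of k))) ⟶ G).left ≫ G.hom = 𝟙 _ := Over.w η[G]
    have hst := UnrStalkLib.formallyUnramified_of_dualNumber G.hom η[G].left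
      (x := η[G].left (IsLocalRing.closedPoint k)) rfl he H'
    obtain ⟨U, hxU, hU⟩ := UnrStalkLib.mem_locus_of_stalkMap G.hom hst
    refine (Groth.Agent.WeilRes.formallyUnramified_iff_unit G).mpr ?_
    have hrange : Set.range (η[G] : 𝟙_ (Over (Spec (CommRingCat.of k))) ⟶ G).left ⊆ Set.range U.ι := by
      rintro _ ⟨y, rfl⟩
      rw [U.range_ι]
      have : y = IsLocalRing.closedPoint k := @Subsingleton.elim (PrimeSpectrum k) inferInstance _ _
      rw [this]
      exact hxU
    let e' := IsOpenImmersion.lift U.ι (η[G] : 𝟙_ (Over (Spec (CommRingCat.of k))) ⟶ G).left hrange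
    have he' : e' ≫ U.ι = (η[G] : 𝟙_ (Over (Spec (CommRingCat.of k))) ⟶ G).left :=
      IsOpenImmersion.lift_fac _ _ _
    haveI := hU
    haveI : IsOpenImmersion e' := FFDescLib.isOpenImmersion_of_section (U.ι ≫ G.hom) e'
      (by rw [← Category.assoc, he', he]; rfl)
    rw [← he']
    infer_instance

end Group

section Aut

variable (X : Over (Spec (CommRingCat.of k)))

/-- The inclusion of the closed fibre. -/
def incl : X ⟶ X ⊗ T k := lift (𝟙 X) (toUnit X ≫ red k)

theorem incl_left : (incl X).left = ArtFun.Art.XAincl X.hom (D k) := by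
  apply pullback.hom_ext
  · exact (congrArg CommaMorphism.left (lift_fst (𝟙 X) (toUnit X ≫ red k))).trans
      (ArtFun.Art.XAincl_fst X.hom (D k)).symm
  · refine Eq.trans ?_ (ArtFun.Art.XAincl_snd X.hom (D k)).symm
    exact congrArg CommaMorphism.left (lift_snd (𝟙 X) (toUnit X ≫ red k))

variable {X} {G : Over (Spec (CommRingCat.of k))} [GrpObj G] (a : AlgGrp.Action G X)

theorem famOf_one (T' : Over (Spec (CommRingCat.of k))) : AutSch.famOf a (1 : T' ⟶ G) = fst X T' := by
  have h := congrArg (fun f => lift (toUnit (X ⊗ T')) (fst X T') ≫ f) a.one_act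
  simp only [lift_whiskerRight_assoc, lift_leftUnitor_hom] at h
  rw [AutSch.famOf, MonObj.comp_one, Hom.one_def]
  exact h

theorem isAutFamily_fst (T' : Over (Spec (CommRingCat.of k))) : AutSch.IsAutFamily (fst X T') := by
  show IsIso (AutSch.endOf (fst X T'))
  rw [AutSch.endOf, lift_fst_snd]
  infer_instance

theorem isAutFamily_of_def1 (φ : HomTanLib.Def1 X.hom X.hom (𝟙 X.left)) (Φ : X ⊗ T k ⟶ X) (hΦ : Φ.left = φ.1) :
    AutSch.IsAutFamily Φ := by
  let x := X.hom
  have w : φ.1 ≫ x = pullback.snd x (ArtFun.Art.specOver (D k)) ≫ ArtFun.Art.specOver (D k) :=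
    φ.2.1.trans pullback.condition
  let ψ : (DefGlueLib.triv x).total ⟶ (DefGlueLib.triv x).total := pullback.lift φ.1 (DefGlueLib.triv x).f w
  have hincl : ArtFun.Art.XAincl x (ArtFun.Art.dual k k) = (DefGlueLib.triv x).i := by
    apply pullback.hom_ext
    · refine (ArtFun.Art.XAincl_fst x _).trans ?_
      exact (ArtFun.DefSch.baseChange_i_fst (ArtFun.DefSch.self (Λ := k) X.left x (DefGlueLib.flat_of_specPt x))
        ArtFun.Art.baseToDual).symm
    · refine (ArtFun.Art.XAincl_snd x _).trans ?_
      exact (ArtFun.DefSch.baseChange_i_f (ArtFun.DefSch.self (Λ := k) X.left x (DefGlueLib.flat_of_specPt x))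
        ArtFun.Art.baseToDual).symm
  have hi : (DefGlueLib.triv x).i ≫ ψ = (DefGlueLib.triv x).i := by
    apply pullback.hom_ext
    · rw [Category.assoc, pullback.lift_fst]
      refine Eq.trans ?_ (ArtFun.DefSch.baseChange_i_fst (ArtFun.DefSch.self (Λ := k) X.left x
        (DefGlueLib.flat_of_specPt x)) ArtFun.Art.baseToDual).symm
      show (DefGlueLib.triv x).i ≫ φ.1 = 𝟙 X.left
      rw [← hincl]
      exact φ.2.2
    · rw [Category.assoc, pullback.lift_snd]
  haveI : IsIso ψ := DefGlueLib.isIso_of_hom (DefGlueLib.triv x) ψ (pullback.lift_snd _ _ _) hi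
  have he : (AutSch.endOf Φ).left = ψ := by
    apply pullback.hom_ext
    · refine Eq.trans ?_ (pullback.lift_fst _ _ _).symm
      exact (congrArg CommaMorphism.left (AutSch.endOf_fst Φ)).trans hΦ
    · refine Eq.trans ?_ (pullback.lift_snd _ _ _).symm
      exact congrArg CommaMorphism.left (AutSch.endOf_snd Φ)
  haveI : IsIso ((Over.forget _).map (AutSch.endOf Φ)) := by
    show IsIso (AutSch.endOf Φ).left
    rw [he]
    infer_instance
  exact isIso_of_reflects_iso (AutSch.endOf Φ) (Over.forget _)

theorem points_trivial_iff (hG : AutSch.Represents X G a) :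
    (∀ v : T k ⟶ G, red k ≫ v = 1 → v = 1) ↔ Subsingleton (HomTanLib.Def1 X.hom X.hom (𝟙 X.left)) := by
  rw [AutSch.represents_iff] at hG
  constructor
  · intro H
    suffices key : ∀ φ : HomTanLib.Def1 X.hom X.hom (𝟙 X.left), φ.1 = (fst X (T k)).left from
      ⟨fun φ ψ => Subtype.ext ((key φ).trans (key ψ).symm)⟩
    intro φ
    let Φ : X ⊗ T k ⟶ X := Over.homMk φ.1 (φ.2.1.trans (Over.w (fst X (T k))))
    obtain ⟨g, hg, -⟩ := hG _ Φ (isAutFamily_of_def1 φ Φ rfl)
    have hinc : incl X ≫ Φ = 𝟙 X := by
      refine Over.OverMorphism.ext ?_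
      show (incl X).left ≫ φ.1 = 𝟙 _
      rw [incl_left]
      exact φ.2.2
    have hwh : X ◁ red k = fst X (𝟙_ _) ≫ incl X := by
      rw [incl, comp_lift, Category.comp_id]
      refine CartesianMonoidalCategory.hom_ext _ _ ?_ ?_
      · rw [lift_fst, whiskerLeft_fst]
      · rw [lift_snd, whiskerLeft_snd, ← Category.assoc]
        exact congrArg (· ≫ red k) (toUnit_unique _ _)
    have hred : red k ≫ g = 1 := (hG _ _ (isAutFamily_fst _)).unique
      (by rw [AutSch.famOf_comp, hg, AutSch.pullFam, hwh, Category.assoc, hinc, Category.comp_id])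
      (famOf_one a _)
    rw [H g hred, famOf_one] at hg
    exact congrArg CommaMorphism.left hg.symm
  · intro h v hv
    have hinc : incl X ≫ AutSch.famOf a v = 𝟙 X := by
      have h1 : incl X ≫ AutSch.famOf a v = incl X ≫ AutSch.famOf a (1 : T k ⟶ G) := by
        simp only [AutSch.famOf, incl, comp_lift_assoc, lift_snd_assoc, lift_fst, Category.assoc, hv,
          MonObj.comp_one]
      rw [h1, famOf_one, incl, lift_fst]
    let φ : HomTanLib.Def1 X.hom X.hom (𝟙 X.left) := ⟨(AutSch.famOf a v).left,
      (Over.w (AutSch.famOf a v)).trans (Over.w (fst X (T k))).symm,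
      by rw [← incl_left]; exact congrArg CommaMorphism.left hinc⟩
    let φ₀ : HomTanLib.Def1 X.hom X.hom (𝟙 X.left) := ⟨(fst X (T k)).left,
      (Over.w (fst X (T k))).trans (Over.w (fst X (T k))).symm, ArtFun.Art.XAincl_fst _ _⟩
    have he : AutSch.famOf a v = fst X (T k) := Over.OverMorphism.ext (congrArg Subtype.val (h.elim φ φ₀))
    exact (hG _ _ (isAutFamily_fst _)).unique he (famOf_one a _)

end Aut

section Der

variable {X : Scheme.{u}} (x : X ⟶ ArtFun.Art.specPt k)

theorem subsingleton_def1_iff : Subsingleton (HomTanLib.Def1 x x (𝟙 X)) ↔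
    ∀ (Dr : OmegaSh.Der x (Coh.structureModule X)) (U : X.Opens) (s : Γ(X, U)), Dr.app U s = 0 := by
  rw [(Equiv.ofBijective _ (HomTanLib.derOf_bijective (x := x) (yY := x) (f := 𝟙 X)
    (Category.id_comp x))).subsingleton_congr]
  let e := (Scheme.Modules.pushforwardId X).app (Coh.structureModule X)
  constructor
  · intro h Dr U s
    have h0 : Dr.postcomp e.inv.val = Dr.postcomp (0 : Coh.structureModule X ⟶ _).val := Subsingleton.elim _ _
    have h1 : (e.inv.app U) (Dr.app U s) = (0 : Coh.structureModule X ⟶ ((Scheme.Modules.pushforward (𝟙 X)).obj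
        (Coh.structureModule X))).app U (Dr.app U s) := congr(($h0).d (X := Opposite.op U) s)
    have h2 := congr(e.hom.app U $h1)
    rw [← CategoryTheory.comp_apply, ← Scheme.Modules.Hom.comp_app, e.inv_hom_id] at h2
    exact h2.trans (map_zero (e.hom.app U).hom)
  · intro h
    refine ⟨fun D₁ D₂ => PresheafOfModules.Derivation.ext (funext fun W => AddMonoidHom.ext fun s => ?_)⟩
    have h1 : e.hom.app W.unop (D₁.app W.unop s) = e.hom.app W.unop (D₂.app W.unop s) :=
      (h (D₁.postcomp e.hom.val) W.unop s).trans (h (D₂.postcomp e.hom.val) W.unop s).symm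
    have h2 := congr(e.inv.app W.unop $h1)
    rw [← CategoryTheory.comp_apply, ← CategoryTheory.comp_apply, ← Scheme.Modules.Hom.comp_app,
      e.hom_inv_id] at h2
    exact h2

end Der

theorem main (X : Over (Spec (CommRingCat.of k)))
    (G : Over (Spec (CommRingCat.of k))) [GrpObj G] [LocallyOfFiniteType G.hom] (a : AlgGrp.Action G X)
    (hG : AutSch.Represents X G a) :
    FormallyUnramified G.hom ↔
      ∀ (Dr : OmegaSh.Der X.hom (Coh.structureModule X.left)) (U : X.left.Opens) (s : Γ(X.left, U)),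
        Dr.app U s = 0 :=
  (formallyUnramified_iff_dual G).trans ((points_trivial_iff a hG).trans (subsingleton_def1_iff X.hom))

end AutUnrLib
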